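import Mathlib
import Cfsg.Prelude
import Cfsg.Agent.Lib.Helper2.Symp4
import Cfsg.Agent.Lib.Lead.SpGen

set_option autoImplicit false
set_option linter.unusedSectionVars false

open Matrix

/-! # Regular unipotent elements of `Sp_{2n}(F)`: common definitions (S2281)

Index type `Fin (m+1) ⊕ Fin (m+1)`; `eV i`, `fV i` the standard basis vectors (`inl`, `inr`);
`Cfsg.sympForm (fV i) (eV i) = 1`, `Cfsg.sympForm (eV i) (fV i) = -1`.
`tS p c` is the symplectic transvection `x ↦ x + c f(x,p) p` as an element of the group. -/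

namespace Cfsg.Agent.Lib.Helper5.SpRU

variable {F : Type*} [Field F] {m : ℕ}

/-- the basis vector `e_i` -/
def eV (i : Fin (m + 1)) : Fin (m + 1) ⊕ Fin (m + 1) → F := Pi.single (Sum.inl i) 1
/-- the basis vector `f_i` -/
def fV (i : Fin (m + 1)) : Fin (m + 1) ⊕ Fin (m + 1) → F := Pi.single (Sum.inr i) 1

/-- the matrix unit `E_{last,last}` -/
def Ell (m : ℕ) (F : Type*) [Field F] : Matrix (Fin (m + 1)) (Fin (m + 1)) F :=
  Matrix.single (Fin.last m) (Fin.last m) 1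

/-- upper Jordan block `1 + Σ E_{i,i+1}` -/
def Ublk (m : ℕ) (F : Type*) [Field F] : Matrix (Fin (m + 1)) (Fin (m + 1)) F :=
  Matrix.of fun i j => if i = j then 1 else if i.val + 1 = j.val then 1 else 0

/-- its inverse: `(-1)^(j-i)` on and above the diagonal -/
def Vblk (m : ℕ) (F : Type*) [Field F] : Matrix (Fin (m + 1)) (Fin (m + 1)) F :=
  Matrix.of fun i j => if i.val ≤ j.val then (-1) ^ (j.val - i.val) else 0

/-- block diagonal `diag(k, k'ᵀ)`; symplectic when `k * k' = 1` -/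
def DD (k k' : Matrix (Fin (m + 1)) (Fin (m + 1)) F) :
    Matrix (Fin (m + 1) ⊕ Fin (m + 1)) (Fin (m + 1) ⊕ Fin (m + 1)) F :=
  Matrix.fromBlocks k 0 0 k'ᵀ

/-- `[[1,S],[0,1]]`; symplectic when `S` is symmetric -/
def Qm (S : Matrix (Fin (m + 1)) (Fin (m + 1)) F) :
    Matrix (Fin (m + 1) ⊕ Fin (m + 1)) (Fin (m + 1) ⊕ Fin (m + 1)) F :=
  Matrix.fromBlocks 1 S 0 1

/-- `[[1,0],[S,1]]`; symplectic when `S` is symmetric -/
def Qn (S : Matrix (Fin (m + 1)) (Fin (m + 1)) F) :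
    Matrix (Fin (m + 1) ⊕ Fin (m + 1)) (Fin (m + 1) ⊕ Fin (m + 1)) F :=
  Matrix.fromBlocks 1 0 S 1

theorem DD_mem {k k' : Matrix (Fin (m + 1)) (Fin (m + 1)) F} (h : k * k' = 1) :
    DD k k' ∈ Matrix.symplecticGroup (Fin (m + 1)) F := by
  rw [SymplecticGroup.mem_iff]
  unfold DD Matrix.J
  rw [Matrix.fromBlocks_transpose, Matrix.fromBlocks_multiply, Matrix.fromBlocks_multiply]
  have h' : k'ᵀ * kᵀ = 1 := by rw [← Matrix.transpose_mul, h, Matrix.transpose_one]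
  simp [h, h']

theorem Qm_mem {S : Matrix (Fin (m + 1)) (Fin (m + 1)) F} (h : Sᵀ = S) :
    Qm S ∈ Matrix.symplecticGroup (Fin (m + 1)) F := by
  rw [SymplecticGroup.mem_iff]
  unfold Qm Matrix.J
  rw [Matrix.fromBlocks_transpose, Matrix.fromBlocks_multiply, Matrix.fromBlocks_multiply]
  simp [h]

theorem Qn_mem {S : Matrix (Fin (m + 1)) (Fin (m + 1)) F} (h : Sᵀ = S) :
    Qn S ∈ Matrix.symplecticGroup (Fin (m + 1)) F := by
  rw [SymplecticGroup.mem_iff]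
  unfold Qn Matrix.J
  rw [Matrix.fromBlocks_transpose, Matrix.fromBlocks_multiply, Matrix.fromBlocks_multiply]
  simp [h]

theorem DD_mul (k k' l l' : Matrix (Fin (m + 1)) (Fin (m + 1)) F) :
    DD k k' * DD l l' = DD (k * l) (l' * k') := by
  unfold DD
  rw [Matrix.fromBlocks_multiply]
  simp [Matrix.transpose_mul]

theorem DD_one : DD (1 : Matrix (Fin (m + 1)) (Fin (m + 1)) F) 1 = 1 := by
  unfold DD
  rw [Matrix.transpose_one, Matrix.fromBlocks_one]

theorem Qm_mul (S T : Matrix (Fin (m + 1)) (Fin (m + 1)) F) : Qm S * Qm T = Qm (S + T) := by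
  unfold Qm
  rw [Matrix.fromBlocks_multiply]
  simp [add_comm]

theorem Qm_zero : Qm (0 : Matrix (Fin (m + 1)) (Fin (m + 1)) F) = 1 := by
  unfold Qm
  rw [Matrix.fromBlocks_one]

theorem Qn_mul (S T : Matrix (Fin (m + 1)) (Fin (m + 1)) F) : Qn S * Qn T = Qn (S + T) := by
  unfold Qn
  rw [Matrix.fromBlocks_multiply]
  simp

theorem Qn_zero : Qn (0 : Matrix (Fin (m + 1)) (Fin (m + 1)) F) = 1 := by
  unfold Qn
  rw [Matrix.fromBlocks_one]

/-- `D(k) Q(S) = Q(k S kᵀ) D(k)` -/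
theorem DD_mul_Qm {k k' : Matrix (Fin (m + 1)) (Fin (m + 1)) F} (h : k * k' = 1)
    (S : Matrix (Fin (m + 1)) (Fin (m + 1)) F) :
    DD k k' * Qm S = Qm (k * S * kᵀ) * DD k k' := by
  have h' : kᵀ * k'ᵀ = 1 := by
    rw [← Matrix.transpose_mul, mul_eq_one_comm.mp h, Matrix.transpose_one]
  unfold DD Qm
  rw [Matrix.fromBlocks_multiply, Matrix.fromBlocks_multiply]
  simp [Matrix.mul_assoc, h']

/-- `D(k) Q⁻(S) = Q⁻(k'ᵀ S k') D(k)` -/
theorem DD_mul_Qn {k k' : Matrix (Fin (m + 1)) (Fin (m + 1)) F} (h : k * k' = 1)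
    (S : Matrix (Fin (m + 1)) (Fin (m + 1)) F) :
    DD k k' * Qn S = Qn (k'ᵀ * S * k') * DD k k' := by
  have h' : k' * k = 1 := mul_eq_one_comm.mp h
  unfold DD Qn
  rw [Matrix.fromBlocks_multiply, Matrix.fromBlocks_multiply]
  simp [Matrix.mul_assoc, h']

/-- the transvection as a group element -/
def tS (p : Fin (m + 1) ⊕ Fin (m + 1) → F) (c : F) : Matrix.symplecticGroup (Fin (m + 1)) F :=
  ⟨Cfsg.sympTransvection (m + 1) p c, Cfsg.Agent.Lib.Helper2.Symp.sympTransvection_mem p c⟩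

theorem tS_coe (p : Fin (m + 1) ⊕ Fin (m + 1) → F) (c : F) :
    ((tS p c : Matrix.symplecticGroup (Fin (m + 1)) F) :
      Matrix (Fin (m + 1) ⊕ Fin (m + 1)) (Fin (m + 1) ⊕ Fin (m + 1)) F) =
      Cfsg.sympTransvection (m + 1) p c := rfl

/-- conjugation of a transvection -/
theorem tS_conj (g : Matrix.symplecticGroup (Fin (m + 1)) F)
    (p : Fin (m + 1) ⊕ Fin (m + 1) → F) (c : F) :
    g * tS p c * g⁻¹ = tS ((g : Matrix _ _ F) *ᵥ p) c := by
  rw [mul_inv_eq_iff_eq_mul]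
  apply Subtype.ext
  exact (Cfsg.Agent.Lib.Lead.SpGen.transv_mul_comm (g : Matrix _ _ F) g.2 p c).symm

theorem tS_mul (p : Fin (m + 1) ⊕ Fin (m + 1) → F) (c d : F) :
    tS p c * tS p d = tS p (c + d) := by
  apply Subtype.ext
  exact Cfsg.Agent.Lib.Helper2.Symp.sympTransvection_mul p c d

theorem tS_smul (p : Fin (m + 1) ⊕ Fin (m + 1) → F) (a c : F) :
    tS (a • p) c = tS p (c * a * a) := by
  apply Subtype.ext
  exact Cfsg.Agent.Lib.Lead.SpGen.transv_smul p a c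

theorem tS_zero (p : Fin (m + 1) ⊕ Fin (m + 1) → F) : tS p 0 = 1 := by
  apply Subtype.ext
  show Cfsg.sympTransvection (m + 1) p 0 = 1
  unfold Cfsg.sympTransvection
  rw [zero_smul, add_zero]

theorem tS_inv (p : Fin (m + 1) ⊕ Fin (m + 1) → F) (c : F) : (tS p c)⁻¹ = tS p (-c) := by
  rw [inv_eq_iff_mul_eq_one, tS_mul, add_neg_cancel, tS_zero]

/-- the standard regular unipotent element `D(U) · t_{e_last}(1)` (as a matrix) -/
def uMat (m : ℕ) (F : Type*) [Field F] :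
    Matrix (Fin (m + 1) ⊕ Fin (m + 1)) (Fin (m + 1) ⊕ Fin (m + 1)) F :=
  DD (Ublk m F) (Vblk m F) * Qm (Ell m F)

/-- the opposite regular unipotent element `t_{f_last}(ε) · D(U⁻ᵀ)` (as a matrix) -/
def vMat (m : ℕ) (ε : F) :
    Matrix (Fin (m + 1) ⊕ Fin (m + 1)) (Fin (m + 1) ⊕ Fin (m + 1)) F :=
  Qn (-ε • Ell m F) * DD (Vblk m F)ᵀ (Ublk m F)ᵀ

end Cfsg.Agent.Lib.Helper5.SpRU
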