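import Mathlib
import Cfsg.Prelude
import Cfsg.Agent.Lib.Helper5.SpRU.Defs

set_option autoImplicit false
set_option linter.unusedSectionVars false

open Matrix

namespace Cfsg.Agent.Lib.Helper5.SpRU

variable {F : Type*} [Field F] {m : ℕ}

theorem Ublk_apply (i j : Fin (m + 1)) :
    Ublk m F i j = if i = j then 1 else if i.val + 1 = j.val then 1 else 0 := rfl

theorem Vblk_apply (i j : Fin (m + 1)) :
    Vblk m F i j = if i.val ≤ j.val then (-1) ^ (j.val - i.val) else 0 := rfl

theorem Ublk_mul_Vblk : Ublk m F * Vblk m F = 1 := by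
  ext i j
  rw [Matrix.mul_apply, Matrix.one_apply]
  by_cases hi : i.val + 1 ≤ m
  · have hne : i ≠ (⟨i.val + 1, by omega⟩ : Fin (m + 1)) := by
      intro h
      have := congrArg Fin.val h
      simp at this
    rw [Finset.sum_eq_add i (⟨i.val + 1, by omega⟩ : Fin (m + 1)) hne]
    · rw [Ublk_apply, Ublk_apply, if_pos rfl, if_neg hne, if_pos rfl, one_mul, one_mul,
        Vblk_apply, Vblk_apply]
      by_cases hij : i = j
      · subst hij
        simp
      · rw [if_neg hij]
        by_cases hlt : i.val ≤ j.val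
        · have hlt' : i.val + 1 ≤ j.val := by
            have : i.val ≠ j.val := fun h => hij (Fin.ext h)
            omega
          rw [if_pos hlt, if_pos hlt']
          have : j.val - i.val = (j.val - (i.val + 1)) + 1 := by omega
          rw [this, pow_succ]
          ring
        · rw [if_neg hlt, if_neg (by simp only []; omega), add_zero]
    · intro k _ hk
      rw [Ublk_apply, if_neg hk.1.symm, if_neg, zero_mul]
      intro h
      apply hk.2
      exact Fin.ext h.symm
    · intro h; exact absurd (Finset.mem_univ _) h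
    · intro h; exact absurd (Finset.mem_univ _) h
  · rw [Finset.sum_eq_single i]
    · rw [Ublk_apply, if_pos rfl, one_mul, Vblk_apply]
      by_cases hij : i = j
      · subst hij
        simp
      · rw [if_neg hij, if_neg]
        intro hle
        have : i.val ≠ j.val := fun h => hij (Fin.ext h)
        have := j.isLt
        omega
    · intro k _ hk
      rw [Ublk_apply, if_neg hk.symm, if_neg, zero_mul]
      intro h
      have := k.isLt
      omega
    · intro h; exact absurd (Finset.mem_univ _) h

theorem Vblk_mul_Ublk : Vblk m F * Ublk m F = 1 := mul_eq_one_comm.mp Ublk_mul_Vblk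

theorem Ell_transpose : (Ell m F)ᵀ = Ell m F := by
  unfold Ell
  rw [Matrix.transpose_single]

theorem uMat_mem : uMat m F ∈ Matrix.symplecticGroup (Fin (m + 1)) F :=
  (Matrix.symplecticGroup (Fin (m + 1)) F).mul_mem (DD_mem Ublk_mul_Vblk) (Qm_mem Ell_transpose)

theorem vMat_mem (ε : F) : vMat m ε ∈ Matrix.symplecticGroup (Fin (m + 1)) F := by
  refine (Matrix.symplecticGroup (Fin (m + 1)) F).mul_mem (Qn_mem ?_) (DD_mem ?_)
  · rw [Matrix.transpose_smul, Ell_transpose]
  · rw [← Matrix.transpose_mul, Ublk_mul_Vblk, Matrix.transpose_one]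

/-- the regular unipotent element `u` -/
def uS (m : ℕ) (F : Type*) [Field F] : Matrix.symplecticGroup (Fin (m + 1)) F :=
  ⟨uMat m F, uMat_mem⟩

/-- the opposite regular unipotent element `v_ε` -/
def vS (m : ℕ) {F : Type*} [Field F] (ε : F) : Matrix.symplecticGroup (Fin (m + 1)) F :=
  ⟨vMat m ε, vMat_mem ε⟩

theorem uS_coe : ((uS m F : Matrix.symplecticGroup (Fin (m + 1)) F) : Matrix _ _ F) = uMat m F := rfl
theorem vS_coe (ε : F) :
    ((vS m ε : Matrix.symplecticGroup (Fin (m + 1)) F) : Matrix _ _ F) = vMat m ε := rfl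

/-- Levi elements as group elements -/
def DS (k k' : Matrix (Fin (m + 1)) (Fin (m + 1)) F) (h : k * k' = 1) :
    Matrix.symplecticGroup (Fin (m + 1)) F := ⟨DD k k', DD_mem h⟩

/-- elements of the Siegel radical as group elements -/
def QS (S : Matrix (Fin (m + 1)) (Fin (m + 1)) F) (h : Sᵀ = S) :
    Matrix.symplecticGroup (Fin (m + 1)) F := ⟨Qm S, Qm_mem h⟩

end Cfsg.Agent.Lib.Helper5.SpRU
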