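import Mathlib
import Cfsg.Prelude
import Cfsg.Agent.Lib.Helper5.SpRU.Defs2
import Cfsg.Agent.Lib.Helper2.RegUni2

set_option autoImplicit false
set_option linter.unusedSectionVars false

open Matrix

namespace Cfsg.Agent.Lib.Helper5.SpRU

variable {F : Type*} [Field F] {m : ℕ}

theorem Ublk_eq_Umat : Ublk m F = Cfsg.Agent.Lib.Helper2.RegUni.Umat (F := F) m := rfl

theorem Ublk_det : (Ublk m F).det = 1 := Cfsg.Agent.Lib.Helper2.RegUni.det_Umat m

/-- the Jordan block as an element of `SL` -/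
def USL (m : ℕ) (F : Type*) [Field F] : Matrix.SpecialLinearGroup (Fin (m + 1)) F :=
  ⟨Ublk m F, Ublk_det⟩

theorem USL_coe : ((USL m F : Matrix.SpecialLinearGroup (Fin (m + 1)) F) : Matrix _ _ F) = Ublk m F :=
  rfl

theorem USL_eq_uSL : USL m F = Cfsg.Agent.Lib.Helper2.RegUni.uSL (F := F) m := rfl

theorem USL_inv_coe :
    (↑((USL m F)⁻¹) : Matrix (Fin (m + 1)) (Fin (m + 1)) F) = Vblk m F := by
  have h1 : ((USL m F : Matrix.SpecialLinearGroup (Fin (m + 1)) F) : Matrix _ _ F) *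
      (↑((USL m F)⁻¹) : Matrix (Fin (m + 1)) (Fin (m + 1)) F) = 1 := by
    rw [← Matrix.SpecialLinearGroup.coe_mul, mul_inv_cancel, Matrix.SpecialLinearGroup.coe_one]
  rw [USL_coe] at h1
  calc (↑((USL m F)⁻¹) : Matrix (Fin (m + 1)) (Fin (m + 1)) F)
      = (Vblk m F * Ublk m F) * (↑((USL m F)⁻¹) : Matrix (Fin (m + 1)) (Fin (m + 1)) F) := by rw [Vblk_mul_Ublk, Matrix.one_mul]
    _ = Vblk m F := by rw [Matrix.mul_assoc, h1, Matrix.mul_one]

end Cfsg.Agent.Lib.Helper5.SpRU
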