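import Mathlib
import Cfsg.Prelude
import Cfsg.Agent.Lib.Helper5.SpRU.Defs3

set_option autoImplicit false
set_option linter.unusedSectionVars false

open Matrix

/-! # S2281, package ACT: the action of `uMat`, `vMat` on the standard basis -/

namespace Cfsg.Agent.Lib.Helper5.SpRU

variable {F : Type*} [Field F] {m : ℕ}

local notation "Mm" => Matrix (Fin (m + 1)) (Fin (m + 1)) F

theorem eV_eq (j : Fin (m + 1)) :
    (eV j : Fin (m + 1) ⊕ Fin (m + 1) → F) = Sum.elim (Pi.single j 1) (0 : Fin (m + 1) → F) := by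
  funext x
  rcases x with x | x
  · simp [eV, Pi.single_apply]
  · simp [eV]

theorem fV_eq (j : Fin (m + 1)) :
    (fV j : Fin (m + 1) ⊕ Fin (m + 1) → F) = Sum.elim (0 : Fin (m + 1) → F) (Pi.single j 1) := by
  funext x
  rcases x with x | x
  · simp [fV]
  · simp [fV, Pi.single_apply]

theorem elim_add (a b c d : Fin (m + 1) → F) :
    (Sum.elim a b : Fin (m + 1) ⊕ Fin (m + 1) → F) + Sum.elim c d = Sum.elim (a + c) (b + d) := by
  funext x
  rcases x with x | x <;> rfl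

theorem elim_sub (a b c d : Fin (m + 1) → F) :
    (Sum.elim a b : Fin (m + 1) ⊕ Fin (m + 1) → F) - Sum.elim c d = Sum.elim (a - c) (b - d) := by
  funext x
  rcases x with x | x <;> rfl

theorem elim_smul (t : F) (a b : Fin (m + 1) → F) :
    t • (Sum.elim a b : Fin (m + 1) ⊕ Fin (m + 1) → F) = Sum.elim (t • a) (t • b) := by
  funext x
  rcases x with x | x <;> rfl

theorem uMat_blocks : uMat m F = Matrix.fromBlocks (Ublk m F) (Ublk m F * Ell m F) 0 (Vblk m F)ᵀ := by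
  unfold uMat DD Qm
  rw [Matrix.fromBlocks_multiply]
  simp

theorem vMat_blocks (ε : F) :
    vMat m ε = Matrix.fromBlocks (Vblk m F)ᵀ 0 ((-ε • Ell m F) * (Vblk m F)ᵀ) (Ublk m F) := by
  unfold vMat DD Qn
  rw [Matrix.fromBlocks_multiply]
  simp

theorem uMat_mulVec (x y : Fin (m + 1) → F) :
    uMat m F *ᵥ Sum.elim x y =
      Sum.elim (Ublk m F *ᵥ x + Ublk m F *ᵥ (Ell m F *ᵥ y)) ((Vblk m F)ᵀ *ᵥ y) := by
  rw [uMat_blocks, Matrix.fromBlocks_mulVec]
  simp [Matrix.mulVec_mulVec]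

theorem vMat_mulVec (ε : F) (x y : Fin (m + 1) → F) :
    vMat m ε *ᵥ Sum.elim x y =
      Sum.elim ((Vblk m F)ᵀ *ᵥ x)
        (-(ε • (Ell m F *ᵥ ((Vblk m F)ᵀ *ᵥ x))) + Ublk m F *ᵥ y) := by
  rw [vMat_blocks, Matrix.fromBlocks_mulVec]
  simp only [Sum.elim_comp_inl, Sum.elim_comp_inr, Matrix.zero_mulVec, add_zero]
  rw [← Matrix.mulVec_mulVec, neg_smul, Matrix.neg_mulVec, Matrix.smul_mulVec]

/-- column `0` of `U` -/
theorem Ublk_mulVec_zero : Ublk m F *ᵥ Pi.single (0 : Fin (m + 1)) 1 = Pi.single 0 1 := by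
  funext a
  rw [Matrix.mulVec_single_one, Matrix.col_apply, Ublk_apply]
  by_cases h : a = 0
  · subst h; simp
  · rw [if_neg h, if_neg (by simp), Pi.single_eq_of_ne h]

/-- column `j = i+1` of `U` -/
theorem Ublk_mulVec_succ (i j : Fin (m + 1)) (h : i.val + 1 = j.val) :
    Ublk m F *ᵥ Pi.single j 1 = Pi.single j 1 + Pi.single i 1 := by
  have hij : i ≠ j := fun e => by rw [e] at h; omega
  funext a
  rw [Matrix.mulVec_single_one, Matrix.col_apply, Ublk_apply, Pi.add_apply]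
  by_cases h1 : a = j
  · subst h1
    rw [if_pos rfl, Pi.single_eq_same, Pi.single_eq_of_ne hij.symm, add_zero]
  · rw [if_neg h1, Pi.single_eq_of_ne h1, zero_add]
    by_cases h2 : a = i
    · subst h2
      rw [if_pos h, Pi.single_eq_same]
    · rw [Pi.single_eq_of_ne h2, if_neg]
      intro h3
      apply h2
      apply Fin.ext
      omega

/-- column `i` of `Uᵀ` when `i+1 = j` -/
theorem UblkT_mulVec (i j : Fin (m + 1)) (h : i.val + 1 = j.val) :
    (Ublk m F)ᵀ *ᵥ Pi.single i 1 = Pi.single j 1 + Pi.single i 1 := by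
  have hij : i ≠ j := fun e => by rw [e] at h; omega
  funext a
  rw [Matrix.mulVec_single_one, Matrix.col_apply, Matrix.transpose_apply, Ublk_apply, Pi.add_apply]
  by_cases h1 : a = i
  · subst h1
    rw [if_pos rfl, Pi.single_eq_same, Pi.single_eq_of_ne hij, zero_add]
  · rw [if_neg (fun e => h1 e.symm), Pi.single_eq_of_ne h1, add_zero]
    by_cases h2 : a = j
    · subst h2
      rw [if_pos h, Pi.single_eq_same]
    · rw [Pi.single_eq_of_ne h2, if_neg]
      intro h3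
      apply h2
      apply Fin.ext
      omega

theorem VblkT_UblkT : (Vblk m F)ᵀ * (Ublk m F)ᵀ = 1 := by
  rw [← Matrix.transpose_mul, Ublk_mul_Vblk, Matrix.transpose_one]

/-- `Vᵀ (e_j + e_i) = e_i` when `i+1 = j` -/
theorem VblkT_mulVec_pair (i j : Fin (m + 1)) (h : i.val + 1 = j.val) :
    (Vblk m F)ᵀ *ᵥ (Pi.single j 1 + Pi.single i 1) = Pi.single i 1 := by
  rw [← UblkT_mulVec i j h, Matrix.mulVec_mulVec, VblkT_UblkT, Matrix.one_mulVec]

theorem Vblk_last (a : Fin (m + 1)) :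
    Vblk m F (Fin.last m) a = if a = Fin.last m then 1 else 0 := by
  rw [Vblk_apply]
  by_cases h : a = Fin.last m
  · subst h
    simp
  · rw [if_neg h, if_neg]
    intro hle
    apply h
    apply Fin.ext
    have := a.isLt
    simp only [Fin.val_last] at hle ⊢
    omega

theorem VblkT_mulVec_last :
    (Vblk m F)ᵀ *ᵥ Pi.single (Fin.last m) 1 = Pi.single (Fin.last m) 1 := by
  funext a
  rw [Matrix.mulVec_single_one, Matrix.col_apply, Matrix.transpose_apply, Vblk_last,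
    Pi.single_apply]

theorem Ell_mulVec (y : Fin (m + 1) → F) :
    Ell m F *ᵥ y = y (Fin.last m) • Pi.single (Fin.last m) 1 := by
  unfold Ell
  rw [Matrix.single_mulVec]
  funext a
  simp [Pi.single_apply, Function.update_apply]

theorem Ell_mulVec_single_ne (i : Fin (m + 1)) (h : i ≠ Fin.last m) :
    Ell m F *ᵥ Pi.single i 1 = 0 := by
  rw [Ell_mulVec, Pi.single_eq_of_ne h.symm, zero_smul]

theorem Ell_mulVec_single_last :
    Ell m F *ᵥ Pi.single (Fin.last m) 1 = Pi.single (Fin.last m) 1 := by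
  rw [Ell_mulVec, Pi.single_eq_same, one_smul]

theorem uMat_eV_zero : uMat m F *ᵥ eV (0 : Fin (m + 1)) = eV 0 := by
  rw [eV_eq, uMat_mulVec, Ublk_mulVec_zero]
  simp

theorem uMat_eV_succ (i j : Fin (m + 1)) (h : i.val + 1 = j.val) :
    uMat m F *ᵥ eV j = eV j + eV i := by
  rw [eV_eq, eV_eq, uMat_mulVec, Ublk_mulVec_succ i j h, elim_add]
  simp

theorem vMat_fV_zero (ε : F) : vMat m ε *ᵥ fV (0 : Fin (m + 1)) = fV 0 := by
  rw [fV_eq, vMat_mulVec, Ublk_mulVec_zero]
  simp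

theorem vMat_fV_succ (ε : F) (i j : Fin (m + 1)) (h : i.val + 1 = j.val) :
    vMat m ε *ᵥ fV j = fV j + fV i := by
  rw [fV_eq, fV_eq, vMat_mulVec, Ublk_mulVec_succ i j h, elim_add]
  simp

theorem vMat_uMat_eV (ε : F) (i j : Fin (m + 1)) (h : i.val + 1 = j.val) :
    (vMat m ε * uMat m F) *ᵥ eV j = eV i := by
  have hi : i ≠ Fin.last m := by
    intro e
    have := j.isLt
    rw [e, Fin.val_last] at h
    omega
  rw [← Matrix.mulVec_mulVec, uMat_eV_succ i j h, eV_eq, eV_eq, elim_add, vMat_mulVec,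
    VblkT_mulVec_pair i j h, Ell_mulVec_single_ne i hi]
  simp

theorem uMat_vMat_fV (ε : F) (i j : Fin (m + 1)) (h : i.val + 1 = j.val) (hj : j.val < m) :
    (uMat m F * vMat m ε) *ᵥ fV j = fV i := by
  have hi : i ≠ Fin.last m := by
    intro e
    rw [e, Fin.val_last] at h
    omega
  have hj' : j ≠ Fin.last m := by
    intro e
    rw [e, Fin.val_last] at hj
    omega
  rw [← Matrix.mulVec_mulVec, vMat_fV_succ ε i j h, fV_eq, fV_eq, elim_add, uMat_mulVec,
    Matrix.mulVec_add (Ell m F), Ell_mulVec_single_ne i hi, Ell_mulVec_single_ne j hj',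
    VblkT_mulVec_pair i j h]
  simp

theorem vMat_eV_last (ε : F) :
    vMat m ε *ᵥ eV (Fin.last m) = eV (Fin.last m) - ε • fV (Fin.last m) := by
  rw [eV_eq, fV_eq, vMat_mulVec, VblkT_mulVec_last, Ell_mulVec_single_last, elim_smul, elim_sub]
  simp

theorem uMat_vMat_fV_last (ε : F) (i : Fin (m + 1)) (h : i.val + 1 = m) :
    (uMat m F * vMat m ε) *ᵥ fV (Fin.last m) = fV i + eV (Fin.last m) + eV i := by
  have h' : i.val + 1 = (Fin.last m).val := by rw [Fin.val_last]; exact h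
  have hi : i ≠ Fin.last m := by
    intro e
    rw [e, Fin.val_last] at h
    omega
  have e1 : Ell m F *ᵥ (Pi.single (Fin.last m) 1 + Pi.single i 1) = Pi.single (Fin.last m) 1 := by
    rw [Matrix.mulVec_add, Ell_mulVec_single_ne i hi, Ell_mulVec_single_last, add_zero]
  rw [← Matrix.mulVec_mulVec, vMat_fV_succ ε i _ h', fV_eq, fV_eq, eV_eq, eV_eq, elim_add,
    uMat_mulVec, e1, VblkT_mulVec_pair i _ h', Ublk_mulVec_succ i _ h', elim_add, elim_add]
  simp

theorem uMat_special (i : Fin (m + 1)) (h : i.val + 1 = m) :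
    uMat m F *ᵥ (fV i - eV (Fin.last m) + fV (Fin.last m)) = fV i := by
  have h' : i.val + 1 = (Fin.last m).val := by rw [Fin.val_last]; exact h
  have hi : i ≠ Fin.last m := by
    intro e
    rw [e, Fin.val_last] at h
    omega
  rw [fV_eq, fV_eq, eV_eq, elim_sub, elim_add, uMat_mulVec]
  have e1 : (Pi.single i 1 - 0 + Pi.single (Fin.last m) 1 : Fin (m + 1) → F) =
      Pi.single (Fin.last m) 1 + Pi.single i 1 := by
    rw [sub_zero, add_comm (Pi.single i 1) _]
  rw [e1, VblkT_mulVec_pair i _ h', Matrix.mulVec_add (Ell m F), Ell_mulVec_single_ne i hi,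
    Ell_mulVec_single_last]
  congr 1
  simp [Matrix.mulVec_neg]

/-- `J (p,0) = (0,p)` -/
theorem J_mulVec_inl (p : Fin (m + 1) → F) :
    Matrix.J (Fin (m + 1)) F *ᵥ Sum.elim p (0 : Fin (m + 1) → F) = Sum.elim (0 : Fin (m + 1) → F) p := by
  unfold Matrix.J
  rw [Matrix.fromBlocks_mulVec]
  simp

theorem J_mulVec_inr (p : Fin (m + 1) → F) :
    Matrix.J (Fin (m + 1)) F *ᵥ Sum.elim (0 : Fin (m + 1) → F) p = Sum.elim (-p) (0 : Fin (m + 1) → F) := by
  unfold Matrix.J
  rw [Matrix.fromBlocks_mulVec]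
  simp [Matrix.neg_mulVec]

theorem vecMulVec_inl_inr (a b : Fin (m + 1) → F) :
    Matrix.vecMulVec (Sum.elim a (0 : Fin (m + 1) → F) : Fin (m + 1) ⊕ Fin (m + 1) → F) (Sum.elim (0 : Fin (m + 1) → F) b : Fin (m + 1) ⊕ Fin (m + 1) → F) =
      Matrix.fromBlocks 0 (Matrix.vecMulVec a b) 0 0 := by
  ext x y
  rcases x with x | x <;> rcases y with y | y <;> simp [Matrix.vecMulVec_apply]

theorem vecMulVec_inr_inl (a b : Fin (m + 1) → F) :
    Matrix.vecMulVec (Sum.elim (0 : Fin (m + 1) → F) a : Fin (m + 1) ⊕ Fin (m + 1) → F) (Sum.elim b (0 : Fin (m + 1) → F) : Fin (m + 1) ⊕ Fin (m + 1) → F) =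
      Matrix.fromBlocks 0 0 (Matrix.vecMulVec a b) 0 := by
  ext x y
  rcases x with x | x <;> rcases y with y | y <;> simp [Matrix.vecMulVec_apply]

/-- transvection along a vector `p ∈ E` (supported on `inl`): `Q(c p pᵀ)` -/
theorem tS_inl_coe (p : Fin (m + 1) → F) (c : F) :
    ((tS (Sum.elim p (0 : Fin (m + 1) → F)) c : Matrix.symplecticGroup (Fin (m + 1)) F) :
      Matrix (Fin (m + 1) ⊕ Fin (m + 1)) (Fin (m + 1) ⊕ Fin (m + 1)) F) =
      Qm (c • Matrix.vecMulVec p p) := by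
  rw [tS_coe]
  unfold Cfsg.sympTransvection Qm
  rw [J_mulVec_inl, vecMulVec_inl_inr, ← Matrix.fromBlocks_one, Matrix.fromBlocks_smul,
    Matrix.fromBlocks_add]
  simp

theorem tS_inr_coe (p : Fin (m + 1) → F) (c : F) :
    ((tS (Sum.elim (0 : Fin (m + 1) → F) p) c : Matrix.symplecticGroup (Fin (m + 1)) F) :
      Matrix (Fin (m + 1) ⊕ Fin (m + 1)) (Fin (m + 1) ⊕ Fin (m + 1)) F) =
      Qn (-c • Matrix.vecMulVec p p) := by
  rw [tS_coe]
  unfold Cfsg.sympTransvection Qn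
  rw [J_mulVec_inr, vecMulVec_inr_inl, ← Matrix.fromBlocks_one, Matrix.fromBlocks_smul,
    Matrix.fromBlocks_add]
  simp [Matrix.vecMulVec_neg]

theorem vecMulVec_single (i : Fin (m + 1)) :
    Matrix.vecMulVec (Pi.single i (1 : F)) (Pi.single i (1 : F)) = Matrix.single i i (1 : F) := by
  ext a b
  rw [Matrix.vecMulVec_apply, Matrix.single_apply, Pi.single_apply, Pi.single_apply]
  by_cases h1 : a = i
  · by_cases h2 : b = i
    · rw [if_pos h1, if_pos h2, if_pos ⟨h1.symm, h2.symm⟩, mul_one]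
    · rw [if_neg h2, mul_zero, if_neg (fun h => h2 h.2.symm)]
  · rw [if_neg h1, zero_mul, if_neg (fun h => h1 h.1.symm)]

theorem tS_eV_coe (i : Fin (m + 1)) (c : F) :
    ((tS (eV i) c : Matrix.symplecticGroup (Fin (m + 1)) F) :
      Matrix (Fin (m + 1) ⊕ Fin (m + 1)) (Fin (m + 1) ⊕ Fin (m + 1)) F) =
      Qm (c • Matrix.single i i (1 : F)) := by
  rw [eV_eq, tS_inl_coe, vecMulVec_single]

theorem tS_fV_coe (i : Fin (m + 1)) (c : F) :
    ((tS (fV i) c : Matrix.symplecticGroup (Fin (m + 1)) F) :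
      Matrix (Fin (m + 1) ⊕ Fin (m + 1)) (Fin (m + 1) ⊕ Fin (m + 1)) F) =
      Qn (-c • Matrix.single i i (1 : F)) := by
  rw [fV_eq, tS_inr_coe, vecMulVec_single]

end Cfsg.Agent.Lib.Helper5.SpRU
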