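import Mathlib
import Cfsg.Prelude
import Cfsg.Agent.Lib.Helper5.SpRU.Defs3

set_option autoImplicit false
set_option linter.unusedSectionVars false

open Matrix

/-! # Case A of S2281: the Siegel parabolic calculus (`dS`, `qS`, `hS`) -/

namespace Cfsg.Agent.Lib.Helper5.SpRU

variable {F : Type*} [Field F] {m : ℕ}

local notation "SLm" => Matrix.SpecialLinearGroup (Fin (m + 1)) F
local notation "Spm" => Matrix.symplecticGroup (Fin (m + 1)) F
local notation "Mm" => Matrix (Fin (m + 1)) (Fin (m + 1)) F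
local notation "M2" => Matrix (Fin (m + 1) ⊕ Fin (m + 1)) (Fin (m + 1) ⊕ Fin (m + 1)) F

theorem sl_mul_inv_coe (k : SLm) : (k : Mm) * ((k⁻¹ : SLm) : Mm) = 1 := by
  rw [← Matrix.SpecialLinearGroup.coe_mul, mul_inv_cancel, Matrix.SpecialLinearGroup.coe_one]

theorem sl_inv_mul_coe (k : SLm) : ((k⁻¹ : SLm) : Mm) * (k : Mm) = 1 := by
  rw [← Matrix.SpecialLinearGroup.coe_mul, inv_mul_cancel, Matrix.SpecialLinearGroup.coe_one]

/-- the Levi embedding `SL → Sp`, `k ↦ diag(k, k⁻ᵀ)` -/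
def dS (k : SLm) : Spm := ⟨DD (k : Mm) ((k⁻¹ : SLm) : Mm), DD_mem (sl_mul_inv_coe k)⟩

theorem dS_coe (k : SLm) : ((dS k : Spm) : M2) = DD (k : Mm) ((k⁻¹ : SLm) : Mm) := rfl

theorem dS_mul (k l : SLm) : dS (k * l) = dS k * dS l := by
  apply Subtype.ext
  show DD _ _ = DD _ _ * DD _ _
  rw [DD_mul, _root_.mul_inv_rev, Matrix.SpecialLinearGroup.coe_mul, Matrix.SpecialLinearGroup.coe_mul]

theorem dS_one : dS (1 : SLm) = 1 := by
  apply Subtype.ext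
  show DD _ _ = 1
  rw [inv_one, Matrix.SpecialLinearGroup.coe_one, DD_one]

theorem dS_inv (k : SLm) : dS k⁻¹ = (dS k)⁻¹ := by
  rw [eq_inv_iff_mul_eq_one, ← dS_mul, inv_mul_cancel, dS_one]

/-- `Q(S)` as a group element (`1` when `S` is not symmetric) -/
noncomputable def qS (S : Mm) : Spm := by
  classical
  exact if h : Sᵀ = S then ⟨Qm S, Qm_mem h⟩ else 1

theorem qS_coe {S : Mm} (h : Sᵀ = S) : ((qS S : Spm) : M2) = Qm S := by
  unfold qS
  rw [dif_pos h]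

theorem qS_zero : qS (0 : Mm) = 1 := by
  apply Subtype.ext
  rw [qS_coe (Matrix.transpose_zero), Qm_zero]
  rfl

theorem qS_mul {S T : Mm} (hS : Sᵀ = S) (hT : Tᵀ = T) : qS S * qS T = qS (S + T) := by
  apply Subtype.ext
  have hST : (S + T)ᵀ = S + T := by rw [Matrix.transpose_add, hS, hT]
  rw [qS_coe hST]
  show ((qS S : Spm) : M2) * ((qS T : Spm) : M2) = _
  rw [qS_coe hS, qS_coe hT, Qm_mul]

theorem qS_inv {S : Mm} (hS : Sᵀ = S) : (qS S)⁻¹ = qS (-S) := by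
  have hS' : (-S)ᵀ = -S := by rw [Matrix.transpose_neg, hS]
  rw [inv_eq_iff_mul_eq_one, qS_mul hS hS', add_neg_cancel, qS_zero]

theorem symm_conj {S : Mm} (hS : Sᵀ = S) (k : Mm) : (k * S * kᵀ)ᵀ = k * S * kᵀ := by
  rw [Matrix.transpose_mul, Matrix.transpose_mul, Matrix.transpose_transpose, hS, Matrix.mul_assoc]

/-- `D(k) Q(S) D(k)⁻¹ = Q(k S kᵀ)` -/
theorem dS_qS_conj (k : SLm) {S : Mm} (hS : Sᵀ = S) :
    dS k * qS S * (dS k)⁻¹ = qS ((k : Mm) * S * (k : Mm)ᵀ) := by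
  rw [mul_inv_eq_iff_eq_mul]
  apply Subtype.ext
  show ((dS k : Spm) : M2) * ((qS S : Spm) : M2) =
    ((qS _ : Spm) : M2) * ((dS k : Spm) : M2)
  rw [qS_coe hS, qS_coe (symm_conj hS _), dS_coe, DD_mul_Qm (sl_mul_inv_coe k)]

theorem dS_inv_qS_conj (k : SLm) {S : Mm} (hS : Sᵀ = S) :
    (dS k)⁻¹ * qS S * dS k = qS (((k⁻¹ : SLm) : Mm) * S * ((k⁻¹ : SLm) : Mm)ᵀ) := by
  have := dS_qS_conj k⁻¹ hS
  rw [dS_inv, inv_inv] at this
  exact this

/-- the scalar torus element `diag(λ, λ⁻¹)` -/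
def hS (lam : F) (hl : lam ≠ 0) : Spm :=
  ⟨DD (lam • (1 : Mm)) (lam⁻¹ • (1 : Mm)), DD_mem (by
    rw [Matrix.smul_mul, Matrix.mul_smul, Matrix.one_mul, smul_smul, mul_inv_cancel₀ hl, one_smul])⟩

theorem hS_coe (lam : F) (hl : lam ≠ 0) :
    ((hS lam hl : Spm) : M2) = DD (lam • (1 : Mm)) (lam⁻¹ • (1 : Mm)) := rfl

theorem hS_comm_dS (lam : F) (hl : lam ≠ 0) (k : SLm) : hS lam hl * dS k = dS k * hS lam hl := by
  apply Subtype.ext
  show DD _ _ * DD _ _ = DD _ _ * DD _ _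
  rw [DD_mul, DD_mul]
  simp

theorem hS_qS_conj (lam : F) (hl : lam ≠ 0) {S : Mm} (hS' : Sᵀ = S) :
    hS lam hl * qS S * (hS lam hl)⁻¹ = qS (lam ^ 2 • S) := by
  rw [mul_inv_eq_iff_eq_mul]
  apply Subtype.ext
  have h2 : (lam ^ 2 • S)ᵀ = lam ^ 2 • S := by rw [Matrix.transpose_smul, hS']
  show ((hS lam hl : Spm) : M2) * ((qS S : Spm) : M2) =
    ((qS _ : Spm) : M2) * ((hS lam hl : Spm) : M2)
  rw [qS_coe hS', qS_coe h2, hS_coe, DD_mul_Qm (by
    rw [Matrix.smul_mul, Matrix.mul_smul, Matrix.one_mul, smul_smul, mul_inv_cancel₀ hl, one_smul])]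
  congr 2
  rw [Matrix.smul_mul, Matrix.one_mul, Matrix.transpose_smul, Matrix.transpose_one,
    Matrix.mul_smul, Matrix.mul_one, smul_smul, pow_two]

/-- `u = D(U) Q(E)` -/
theorem uS_eq : uS m F = dS (USL m F) * qS (Ell m F) := by
  apply Subtype.ext
  show uMat m F = ((dS (USL m F) : Spm) : M2) * ((qS (Ell m F) : Spm) : M2)
  rw [qS_coe Ell_transpose, dS_coe, USL_inv_coe, USL_coe]
  rfl

end Cfsg.Agent.Lib.Helper5.SpRU
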