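import Mathlib
import Cfsg.Prelude
import Cfsg.Agent.Lib.Helper5.SpRU.CaseA1
import Cfsg.Agent.Lib.Helper5.SpRU.Act

set_option autoImplicit false
set_option linter.unusedSectionVars false

open Matrix

/-! # Case A of S2281: two regular unipotents in the Siegel parabolic contain `T_{e_last}` -/

namespace Cfsg.Agent.Lib.Helper5.SpRU

variable {F : Type*} [Field F] {m : ℕ}

local notation "SLm" => Matrix.SpecialLinearGroup (Fin (m + 1)) F
local notation "Spm" => Matrix.symplecticGroup (Fin (m + 1)) F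
local notation "Mm" => Matrix (Fin (m + 1)) (Fin (m + 1)) F
local notation "M2" => Matrix (Fin (m + 1) ⊕ Fin (m + 1)) (Fin (m + 1) ⊕ Fin (m + 1)) F

/-- the second generator in closed form -/
theorem u2_eq (g₀ : SLm) (lam : F) (hl0 : lam ≠ 0) :
    (dS g₀ * hS lam hl0) * uS m F * (dS g₀ * hS lam hl0)⁻¹ =
      dS (g₀ * USL m F * g₀⁻¹) *
        qS ((g₀ : Mm) * (lam ^ 2 • Ell m F) * (g₀ : Mm)ᵀ) := by
  have hE2 : (lam ^ 2 • Ell m F)ᵀ = lam ^ 2 • Ell m F := by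
    rw [Matrix.transpose_smul, Ell_transpose]
  have e1 : hS lam hl0 * dS (USL m F) = dS (USL m F) * hS lam hl0 := hS_comm_dS _ _ _
  have e2 : hS lam hl0 * qS (Ell m F) * (hS lam hl0)⁻¹ = qS (lam ^ 2 • Ell m F) :=
    hS_qS_conj _ _ Ell_transpose
  have e3 := dS_qS_conj g₀ hE2
  rw [uS_eq]
  calc (dS g₀ * hS lam hl0) * (dS (USL m F) * qS (Ell m F)) * (dS g₀ * hS lam hl0)⁻¹
      = dS g₀ * (hS lam hl0 * dS (USL m F)) * qS (Ell m F) * (hS lam hl0)⁻¹ * (dS g₀)⁻¹ := by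
        group
    _ = dS g₀ * dS (USL m F) * (hS lam hl0 * qS (Ell m F) * (hS lam hl0)⁻¹) * (dS g₀)⁻¹ := by
        rw [e1]; group
    _ = (dS g₀ * dS (USL m F) * (dS g₀)⁻¹) *
          (dS g₀ * qS (lam ^ 2 • Ell m F) * (dS g₀)⁻¹) := by
        rw [e2]; group
    _ = _ := by rw [e3, dS_mul, dS_mul, dS_inv]

/-- the subgroup of `SL` of elements that lift to `M` -/
noncomputable def liftK (M : Subgroup Spm) : Subgroup SLm where
  carrier := {k | ∃ S : Mm, Sᵀ = S ∧ dS k * qS S ∈ M}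
  one_mem' := ⟨0, Matrix.transpose_zero, by rw [dS_one, qS_zero, one_mul]; exact M.one_mem⟩
  mul_mem' := by
    rintro k l ⟨S, hS, h1⟩ ⟨T, hT, h2⟩
    have hS' := symm_conj hS ((l⁻¹ : SLm) : Mm)
    refine ⟨((l⁻¹ : SLm) : Mm) * S * ((l⁻¹ : SLm) : Mm)ᵀ + T, ?_, ?_⟩
    · rw [Matrix.transpose_add, hS', hT]
    · have e : dS (k * l) * qS (((l⁻¹ : SLm) : Mm) * S * ((l⁻¹ : SLm) : Mm)ᵀ + T) =
          (dS k * qS S) * (dS l * qS T) := by
        rw [← qS_mul hS' hT, ← dS_inv_qS_conj l hS, dS_mul]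
        group
      rw [e]
      exact M.mul_mem h1 h2
  inv_mem' := by
    rintro k ⟨S, hS, h1⟩
    have hS' : (-S)ᵀ = -S := by rw [Matrix.transpose_neg, hS]
    refine ⟨(k : Mm) * (-S) * (k : Mm)ᵀ, symm_conj hS' _, ?_⟩
    have e : dS k⁻¹ * qS ((k : Mm) * (-S) * (k : Mm)ᵀ) = (dS k * qS S)⁻¹ := by
      rw [← dS_qS_conj k hS', ← qS_inv hS, dS_inv]
      group
    rw [e]
    exact M.inv_mem h1

theorem mem_liftK (M : Subgroup Spm) (k : SLm) :
    k ∈ liftK M ↔ ∃ S : Mm, Sᵀ = S ∧ dS k * qS S ∈ M := Iff.rfl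

/-- the additive group of `S` with `Q(S) ∈ M` -/
noncomputable def radN (M : Subgroup Spm) : AddSubgroup Mm where
  carrier := {S | Sᵀ = S ∧ qS S ∈ M}
  zero_mem' := ⟨Matrix.transpose_zero, by rw [qS_zero]; exact M.one_mem⟩
  add_mem' := by
    rintro S T ⟨hS, h1⟩ ⟨hT, h2⟩
    refine ⟨by rw [Matrix.transpose_add, hS, hT], ?_⟩
    rw [← qS_mul hS hT]
    exact M.mul_mem h1 h2
  neg_mem' := by
    rintro S ⟨hS, h1⟩
    refine ⟨by rw [Matrix.transpose_neg, hS], ?_⟩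
    rw [← qS_inv hS]
    exact M.inv_mem h1

theorem mem_radN (M : Subgroup Spm) (S : Mm) : S ∈ radN M ↔ Sᵀ = S ∧ qS S ∈ M := Iff.rfl

theorem radN_stable (M : Subgroup Spm) (hK : liftK M = ⊤) (k : Mm) (hk : k.det = 1)
    (S : Mm) (hS : S ∈ radN M) : k * S * kᵀ ∈ radN M := by
  obtain ⟨hS1, hS2⟩ := hS
  obtain ⟨k', hk'⟩ : ∃ k' : SLm, (k' : Mm) = k := ⟨⟨k, hk⟩, rfl⟩
  have hk'' : k' ∈ liftK M := by rw [hK]; exact Subgroup.mem_top _
  obtain ⟨T, hT, hx⟩ := hk''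
  refine ⟨symm_conj hS1 k, ?_⟩
  have e : qS (k * S * kᵀ) = (dS k' * qS T) * qS S * (dS k' * qS T)⁻¹ := by
    have h1 := dS_qS_conj k' hS1
    rw [hk'] at h1
    have h2 : qS T * qS S = qS S * qS T := by
      rw [qS_mul hT hS1, qS_mul hS1 hT, add_comm T S]
    calc qS (k * S * kᵀ) = dS k' * qS S * (dS k')⁻¹ := h1.symm
      _ = dS k' * (qS S * qS T) * (qS T)⁻¹ * (dS k')⁻¹ := by group
      _ = _ := by rw [← h2]; group
  rw [e]
  exact M.mul_mem (M.mul_mem hx hS2) (M.inv_mem hx)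

theorem conj_last_last (S : Mm) :
    (Vblk m F * S * (Vblk m F)ᵀ) (Fin.last m) (Fin.last m) = S (Fin.last m) (Fin.last m) := by
  rw [Matrix.mul_apply]
  rw [Finset.sum_eq_single (Fin.last m)]
  · rw [Matrix.transpose_apply, Vblk_last, if_pos rfl, mul_one, Matrix.mul_apply,
      Finset.sum_eq_single (Fin.last m)]
    · rw [Vblk_last, if_pos rfl, one_mul]
    · intro b _ hb
      rw [Vblk_last, if_neg hb, zero_mul]
    · intro h; exact absurd (Finset.mem_univ _) h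
  · intro b _ hb
    rw [Matrix.transpose_apply, Vblk_last, if_neg hb, mul_zero]
  · intro h; exact absurd (Finset.mem_univ _) h

/-- **Case A core.** -/
theorem caseA_core (g₀ : SLm)
    (hg₀ : Subgroup.closure ({USL m F, g₀ * USL m F * g₀⁻¹} : Set SLm) = ⊤)
    (lam : F) (hl0 : lam ≠ 0) (hl1 : lam ^ 2 ≠ 1)
    (hgamma : ∀ (N : AddSubgroup Mm), (∀ k : Mm, k.det = 1 → ∀ S ∈ N, k * S * kᵀ ∈ N) →
      ∀ S₀ ∈ N, S₀ᵀ = S₀ → ∀ j : Fin (m + 1), S₀ j j ≠ 0 →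
        ∀ (i : Fin (m + 1)) (c : F), c • Matrix.single i i (1 : F) ∈ N) :
    ∀ c : F, qS (c • Ell m F) ∈ Subgroup.closure
      ({uS m F, (dS g₀ * hS lam hl0) * uS m F * (dS g₀ * hS lam hl0)⁻¹} : Set Spm) := by
  set M : Subgroup Spm := Subgroup.closure
    ({uS m F, (dS g₀ * hS lam hl0) * uS m F * (dS g₀ * hS lam hl0)⁻¹} : Set Spm) with hM
  have hu : uS m F ∈ M := Subgroup.subset_closure (by simp)
  have hu2 : (dS g₀ * hS lam hl0) * uS m F * (dS g₀ * hS lam hl0)⁻¹ ∈ M :=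
    Subgroup.subset_closure (by simp)
  have hE2 : (lam ^ 2 • Ell m F)ᵀ = lam ^ 2 • Ell m F := by
    rw [Matrix.transpose_smul, Ell_transpose]
  -- the lifting subgroup is everything
  have hK : liftK M = ⊤ := by
    rw [eq_top_iff, ← hg₀, Subgroup.closure_le]
    rintro k hk
    rcases hk with rfl | hk
    · exact ⟨Ell m F, Ell_transpose, by rw [← uS_eq]; exact hu⟩
    · rw [Set.mem_singleton_iff] at hk
      subst hk
      exact ⟨_, symm_conj hE2 _, by rw [← u2_eq]; exact hu2⟩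
  -- lift of g₀
  have hg : g₀ ∈ liftK M := by rw [hK]; exact Subgroup.mem_top _
  obtain ⟨Sg, hSg, hxg⟩ := hg
  -- the element ν
  have hVS : (Vblk m F * Sg * (Vblk m F)ᵀ)ᵀ = Vblk m F * Sg * (Vblk m F)ᵀ := symm_conj hSg _
  have hnegVS : (-(Vblk m F * Sg * (Vblk m F)ᵀ))ᵀ = -(Vblk m F * Sg * (Vblk m F)ᵀ) := by
    rw [Matrix.transpose_neg, hVS]
  have hnegE : (-Ell m F)ᵀ = -Ell m F := by rw [Matrix.transpose_neg, Ell_transpose]
  have hnegSg : (-Sg)ᵀ = -Sg := by rw [Matrix.transpose_neg, hSg]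
  have hsum : (lam ^ 2 • Ell m F + Sg)ᵀ = lam ^ 2 • Ell m F + Sg := by
    rw [Matrix.transpose_add, hE2, hSg]
  have hν : (uS m F)⁻¹ * ((dS g₀ * qS Sg)⁻¹ *
      ((dS g₀ * hS lam hl0) * uS m F * (dS g₀ * hS lam hl0)⁻¹) * (dS g₀ * qS Sg)) ∈ M :=
    M.mul_mem (M.inv_mem hu) (M.mul_mem (M.mul_mem (M.inv_mem hxg) hu2) hxg)
  have hνeq : (uS m F)⁻¹ * ((dS g₀ * qS Sg)⁻¹ *
      ((dS g₀ * hS lam hl0) * uS m F * (dS g₀ * hS lam hl0)⁻¹) * (dS g₀ * qS Sg)) =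
      qS ((lam ^ 2 - 1) • Ell m F + Sg - Vblk m F * Sg * (Vblk m F)ᵀ) := by
    have e3 := dS_qS_conj g₀ hE2
    have e4 : (dS (USL m F))⁻¹ * qS (-Sg) * dS (USL m F) =
        qS (-(Vblk m F * Sg * (Vblk m F)ᵀ)) := by
      rw [dS_inv_qS_conj _ hnegSg, USL_inv_coe]
      congr 1
      rw [Matrix.mul_neg, Matrix.neg_mul]
    rw [u2_eq, ← e3, dS_mul, dS_mul, dS_inv, uS_eq]
    calc (dS (USL m F) * qS (Ell m F))⁻¹ * ((dS g₀ * qS Sg)⁻¹ *
          (dS g₀ * dS (USL m F) * (dS g₀)⁻¹ * (dS g₀ * qS (lam ^ 2 • Ell m F) * (dS g₀)⁻¹)) *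
            (dS g₀ * qS Sg))
        = (qS (Ell m F))⁻¹ * ((dS (USL m F))⁻¹ * (qS Sg)⁻¹ * dS (USL m F)) *
            (qS (lam ^ 2 • Ell m F) * qS Sg) := by group
      _ = qS (-Ell m F) * qS (-(Vblk m F * Sg * (Vblk m F)ᵀ)) *
            qS (lam ^ 2 • Ell m F + Sg) := by
          rw [qS_inv Ell_transpose, qS_inv hSg, e4, qS_mul hE2 hSg]
      _ = _ := by
          rw [qS_mul hnegE hnegVS, qS_mul (by rw [Matrix.transpose_add, hnegE, hnegVS]) hsum]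
          congr 1
          rw [sub_smul, one_smul]
          abel
  rw [hνeq] at hν
  -- apply gamma
  set S₀ : Mm := (lam ^ 2 - 1) • Ell m F + Sg - Vblk m F * Sg * (Vblk m F)ᵀ with hS₀
  have hS₀symm : S₀ᵀ = S₀ := by
    rw [hS₀, Matrix.transpose_sub, Matrix.transpose_add, Matrix.transpose_smul, Ell_transpose,
      hSg, hVS]
  have hS₀mem : S₀ ∈ radN M := ⟨hS₀symm, hν⟩
  have hS₀ll : S₀ (Fin.last m) (Fin.last m) ≠ 0 := by
    rw [hS₀, Matrix.sub_apply, Matrix.add_apply, Matrix.smul_apply, conj_last_last]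
    unfold Ell
    rw [Matrix.single_apply_same, smul_eq_mul, mul_one, add_sub_cancel_right]
    exact sub_ne_zero.mpr hl1
  intro c
  have := hgamma (radN M) (radN_stable M hK) S₀ hS₀mem hS₀symm (Fin.last m) hS₀ll (Fin.last m) c
  exact this.2

end Cfsg.Agent.Lib.Helper5.SpRU
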