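import Mathlib
import Cfsg.Prelude
import Cfsg.Agent.Lib.Helper5.SpRU.CaseA1
import Cfsg.Agent.Lib.Helper5.SpRU.Act

set_option autoImplicit false
set_option linter.unusedSectionVars false

open Matrix

/-! # Case C of S2281 (`n = 2`): explicit `2 × 2` blocks and the rank-two relation -/

namespace Cfsg.Agent.Lib.Helper5.SpRU

variable {F : Type*} [Field F]

local notation "Sp2" => Matrix.symplecticGroup (Fin (1 + 1)) F
local notation "M22" => Matrix (Fin (1 + 1)) (Fin (1 + 1)) F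
local notation "M44" => Matrix (Fin (1 + 1) ⊕ Fin (1 + 1)) (Fin (1 + 1) ⊕ Fin (1 + 1)) F

theorem Ell_one : Ell 1 F = !![0, 0; 0, 1] := by
  ext i j
  fin_cases i <;> fin_cases j <;> simp [Ell, Matrix.single_apply, Fin.last]

theorem single00 : (Matrix.single (0 : Fin (1 + 1)) (0 : Fin (1 + 1)) (1 : F)) = !![1, 0; 0, 0] := by
  ext i j
  fin_cases i <;> fin_cases j <;> simp [Matrix.single_apply]

theorem Ublk_one : Ublk 1 F = !![1, 1; 0, 1] := by
  ext i j
  fin_cases i <;> fin_cases j <;> simp [Ublk_apply]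

theorem Vblk_one : Vblk 1 F = !![1, -1; 0, 1] := by
  ext i j
  fin_cases i <;> fin_cases j <;> simp [Vblk_apply]

/-- the short root element `D(1 + z E_01)` -/
def xrS (z : F) : Sp2 :=
  DS (!![1, z; 0, 1] : M22) (!![1, -z; 0, 1] : M22) (by
    ext i j
    fin_cases i <;> fin_cases j <;> simp [Matrix.mul_apply, Fin.sum_univ_two])

theorem xrS_coe (z : F) :
    ((xrS z : Sp2) : M44) = DD (!![1, z; 0, 1] : M22) (!![1, -z; 0, 1] : M22) := rfl

/-- `u = xrS 1 * Q(E_11)` -/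
theorem uS_eq_xrS : uS 1 F = xrS 1 * qS (Ell 1 F) := by
  apply Subtype.ext
  show uMat 1 F = ((xrS 1 : Sp2) : M44) * ((qS (Ell 1 F) : Sp2) : M44)
  rw [qS_coe Ell_transpose, xrS_coe]
  unfold uMat
  rw [Ublk_one, Vblk_one]

theorem S01_symm : (!![0, 1; 1, 0] : M22)ᵀ = !![0, 1; 1, 0] := by
  ext i j
  fin_cases i <;> fin_cases j <;> simp

theorem E00_symm : (!![1, 0; 0, 0] : M22)ᵀ = !![1, 0; 0, 0] := by
  ext i j
  fin_cases i <;> fin_cases j <;> simp

/-- the rank-two relation (R1) -/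
theorem rel_R1 (y d : F) :
    tS (fV (1 : Fin (1 + 1))) y * qS (d • (!![0, 1; 1, 0] : M22)) *
        (tS (fV (1 : Fin (1 + 1))) y)⁻¹ =
      qS (d • (!![0, 1; 1, 0] : M22)) * xrS (y * d) * qS ((y * d * d) • (!![1, 0; 0, 0] : M22)) := by
  rw [mul_inv_eq_iff_eq_mul]
  apply Subtype.ext
  have h1 : (d • (!![0, 1; 1, 0] : M22))ᵀ = d • (!![0, 1; 1, 0] : M22) := by
    rw [Matrix.transpose_smul, S01_symm]
  have h2 : ((y * d * d) • (!![1, 0; 0, 0] : M22))ᵀ = (y * d * d) • (!![1, 0; 0, 0] : M22) := by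
    rw [Matrix.transpose_smul, E00_symm]
  show ((tS (fV (1 : Fin (1 + 1))) y : Sp2) : M44) * ((qS _ : Sp2) : M44) =
    ((qS _ : Sp2) : M44) * ((xrS (y * d) : Sp2) : M44) * ((qS _ : Sp2) : M44) *
      ((tS (fV (1 : Fin (1 + 1))) y : Sp2) : M44)
  rw [qS_coe h1, qS_coe h2, tS_fV_coe, xrS_coe]
  have hs : (Matrix.single (1 : Fin (1 + 1)) (1 : Fin (1 + 1)) (1 : F)) = !![0, 0; 0, 1] := by
    ext i j
    fin_cases i <;> fin_cases j <;> simp [Matrix.single_apply]
  rw [hs]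
  unfold Qm Qn DD
  rw [Matrix.fromBlocks_multiply, Matrix.fromBlocks_multiply, Matrix.fromBlocks_multiply,
    Matrix.fromBlocks_multiply]
  congr 1 <;>
  · ext i j
    fin_cases i <;> fin_cases j <;>
      simp only [Matrix.mul_apply, Matrix.add_apply, Matrix.sub_apply, Matrix.smul_apply,
        Matrix.neg_apply, Matrix.transpose_apply, Matrix.one_apply, Matrix.zero_apply,
        Fin.sum_univ_two, smul_eq_mul] <;> simp <;> ring

end Cfsg.Agent.Lib.Helper5.SpRU
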