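import Mathlib
import Cfsg.Prelude
import Cfsg.Agent.Lib.Helper5.SpRU.CaseC1

set_option autoImplicit false
set_option linter.unusedSectionVars false

open Matrix

/-! # Case C of S2281 (`n = 2`): the induction giving the full root subgroup `T_{e_last}` -/

namespace Cfsg.Agent.Lib.Helper5.SpRU

variable {F : Type*} [Field F] {m : ℕ}

local notation "Spm" => Matrix.symplecticGroup (Fin (m + 1)) F
local notation "M2" => Matrix (Fin (m + 1) ⊕ Fin (m + 1)) (Fin (m + 1) ⊕ Fin (m + 1)) F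

theorem tS_mulVec (p x : Fin (m + 1) ⊕ Fin (m + 1) → F) (c : F) :
    ((tS p c : Spm) : M2) *ᵥ x = x + (c * Cfsg.sympForm (m + 1) F x p) • p :=
  Cfsg.Agent.Lib.Helper2.Symp.sympTransvection_mulVec p c x

theorem sfC_eV (x : Fin (m + 1) ⊕ Fin (m + 1) → F) (j : Fin (m + 1)) :
    Cfsg.sympForm (m + 1) F x (eV j) = x (Sum.inr j) :=
  Cfsg.Agent.Lib.Helper2.Symp.sympForm_single_inl x j

theorem sfC_fV (x : Fin (m + 1) ⊕ Fin (m + 1) → F) (j : Fin (m + 1)) :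
    Cfsg.sympForm (m + 1) F x (fV j) = - x (Sum.inl j) :=
  Cfsg.Agent.Lib.Helper2.Symp.sympForm_single_inr x j

/-- the transvection `t_{e_last}(c₀)` maps `e_last - ε f_last` to `-ε f_last` when `c₀ ε = 1` -/
theorem tS_eV_last_mulVec (c₀ ε : F) (h : c₀ * ε = 1) :
    ((tS (eV (Fin.last m)) c₀ : Spm) : M2) *ᵥ (eV (Fin.last m) - ε • fV (Fin.last m)) =
      (-ε) • fV (Fin.last m) := by
  rw [tS_mulVec, sfC_eV]
  have h1 : (eV (Fin.last m) - ε • fV (Fin.last m) : Fin (m + 1) ⊕ Fin (m + 1) → F)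
      (Sum.inr (Fin.last m)) = -ε := by
    simp [eV, fV]
  rw [h1, mul_neg, h, neg_smul, one_smul, neg_smul]
  abel

/-- from `t_{e_last}(c₀)` and `v_ε` with `c₀ ε = 1` we get `t_{f_last}(ε)` -/
theorem step_f_last (H : Subgroup Spm) (c₀ ε : F) (h : c₀ * ε = 1) (hv : vS m ε ∈ H)
    (hc : tS (eV (Fin.last m)) c₀ ∈ H) : tS (fV (Fin.last m)) ε ∈ H := by
  have h1 : tS (eV (Fin.last m) - ε • fV (Fin.last m)) c₀ ∈ H := by
    have := tS_conj (vS m ε) (eV (Fin.last m)) c₀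
    rw [vS_coe, vMat_eV_last] at this
    rw [← this]
    exact H.mul_mem (H.mul_mem hv hc) (H.inv_mem hv)
  have h2 : tS ((-ε) • fV (Fin.last m)) c₀ ∈ H := by
    have := tS_conj (tS (eV (Fin.last m)) c₀) (eV (Fin.last m) - ε • fV (Fin.last m)) c₀
    rw [tS_eV_last_mulVec c₀ ε h] at this
    rw [← this]
    exact H.mul_mem (H.mul_mem hc h1) (H.inv_mem hc)
  rw [tS_smul] at h2
  have e : c₀ * -ε * -ε = ε := by
    have : c₀ * -ε * -ε = (c₀ * ε) * ε := by ring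
    rw [this, h, one_mul]
  rw [e] at h2
  exact h2

/-- the Weyl element: `t_{e_last}(c₀) t_{f_last}(ε) t_{e_last}(c₀)` maps `e_last` to `-ε f_last` -/
theorem weyl_mulVec (c₀ ε : F) (h : c₀ * ε = 1) :
    ((tS (eV (Fin.last m)) c₀ * tS (fV (Fin.last m)) ε * tS (eV (Fin.last m)) c₀ : Spm) : M2) *ᵥ
      eV (Fin.last m) = (-ε) • fV (Fin.last m) := by
  have e1 : ((tS (eV (Fin.last m)) c₀ : Spm) : M2) *ᵥ eV (Fin.last m) = eV (Fin.last m) := by
    rw [tS_mulVec, sfC_eV]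
    simp [eV]
  have e2 : ((tS (fV (Fin.last m)) ε : Spm) : M2) *ᵥ eV (Fin.last m) =
      eV (Fin.last m) - ε • fV (Fin.last m) := by
    rw [tS_mulVec, sfC_fV]
    have : (eV (Fin.last m) : Fin (m + 1) ⊕ Fin (m + 1) → F) (Sum.inl (Fin.last m)) = 1 := by
      simp [eV]
    rw [this, mul_neg, mul_one, neg_smul, sub_eq_add_neg]
  show (((tS (eV (Fin.last m)) c₀ : Spm) : M2) * ((tS (fV (Fin.last m)) ε : Spm) : M2) *
    ((tS (eV (Fin.last m)) c₀ : Spm) : M2)) *ᵥ eV (Fin.last m) = _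
  rw [← Matrix.mulVec_mulVec, ← Matrix.mulVec_mulVec, e1, e2, tS_eV_last_mulVec c₀ ε h]

/-- `t_{e_last}(c) ∈ H ⟹ t_{f_last}(c ε²) ∈ H` once the Weyl element is in `H` -/
theorem step_weyl (H : Subgroup Spm) (c₀ ε : F) (h : c₀ * ε = 1)
    (hc : tS (eV (Fin.last m)) c₀ ∈ H) (hf : tS (fV (Fin.last m)) ε ∈ H) (c : F)
    (hcc : tS (eV (Fin.last m)) c ∈ H) : tS (fV (Fin.last m)) (c * ε * ε) ∈ H := by
  have hn : tS (eV (Fin.last m)) c₀ * tS (fV (Fin.last m)) ε * tS (eV (Fin.last m)) c₀ ∈ H :=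
    H.mul_mem (H.mul_mem hc hf) hc
  have := tS_conj (tS (eV (Fin.last m)) c₀ * tS (fV (Fin.last m)) ε * tS (eV (Fin.last m)) c₀)
    (eV (Fin.last m)) c
  rw [weyl_mulVec c₀ ε h, tS_smul] at this
  have e : c * -ε * -ε = c * ε * ε := by ring
  rw [e] at this
  rw [← this]
  exact H.mul_mem (H.mul_mem hn hcc) (H.inv_mem hn)

end Cfsg.Agent.Lib.Helper5.SpRU
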