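import Mathlib
import Cfsg.Prelude
import Cfsg.Agent.Lib.Helper5.SpRU.CaseC2

set_option autoImplicit false
set_option linter.unusedSectionVars false

open Matrix

/-! # Case C of S2281 (`n = 2`): the main induction -/

namespace Cfsg.Agent.Lib.Helper5.SpRU

variable {F : Type*} [Field F]

local notation "Sp2" => Matrix.symplecticGroup (Fin (1 + 1)) F
local notation "M22" => Matrix (Fin (1 + 1)) (Fin (1 + 1)) F
local notation "M44" => Matrix (Fin (1 + 1) ⊕ Fin (1 + 1)) (Fin (1 + 1) ⊕ Fin (1 + 1)) F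

theorem last_one : Fin.last 1 = (1 : Fin (1 + 1)) := rfl

theorem qS_E11 (c : F) : qS (c • Ell 1 F) = tS (eV (1 : Fin (1 + 1))) c := by
  apply Subtype.ext
  rw [qS_coe (by rw [Matrix.transpose_smul, Ell_transpose]), tS_eV_coe]
  rfl

theorem qS_E00 (c : F) : qS (c • (!![1, 0; 0, 0] : M22)) = tS (eV (0 : Fin (1 + 1))) c := by
  apply Subtype.ext
  rw [qS_coe (by rw [Matrix.transpose_smul, E00_symm]), tS_eV_coe, single00]

theorem tS_sum_eq (c : F) :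
    tS (eV (1 : Fin (1 + 1)) + eV (0 : Fin (1 + 1))) c =
      tS (eV (0 : Fin (1 + 1))) c * tS (eV (1 : Fin (1 + 1))) c *
        qS (c • (!![0, 1; 1, 0] : M22)) := by
  apply Subtype.ext
  show ((tS (eV (1 : Fin (1 + 1)) + eV (0 : Fin (1 + 1))) c : Sp2) : M44) =
    ((tS (eV (0 : Fin (1 + 1))) c : Sp2) : M44) * ((tS (eV (1 : Fin (1 + 1))) c : Sp2) : M44) *
      ((qS (c • (!![0, 1; 1, 0] : M22)) : Sp2) : M44)
  rw [qS_coe (by rw [Matrix.transpose_smul, S01_symm]), tS_eV_coe, tS_eV_coe, eV_eq, eV_eq,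
    elim_add, add_zero, tS_inl_coe, Qm_mul, Qm_mul]
  congr 1
  ext i j
  fin_cases i <;> fin_cases j <;>
    simp [Matrix.vecMulVec_apply, Matrix.single_apply]

/-- (A1) -/
theorem stepA1 (H : Subgroup Sp2) (ε : F) (hu : uS 1 F ∈ H) (hv : vS 1 ε ∈ H) (c : F) :
    tS (eV (1 : Fin (1 + 1))) c ∈ H ↔ tS (eV (0 : Fin (1 + 1))) c ∈ H := by
  have hg : vS 1 ε * uS 1 F ∈ H := H.mul_mem hv hu
  have key := tS_conj (vS 1 ε * uS 1 F) (eV (1 : Fin (1 + 1))) c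
  have hmv : ((vS 1 ε * uS 1 F : Sp2) : M44) *ᵥ eV (1 : Fin (1 + 1)) = eV (0 : Fin (1 + 1)) :=
    vMat_uMat_eV ε (0 : Fin (1 + 1)) (1 : Fin (1 + 1)) rfl
  rw [hmv] at key
  constructor
  · intro h
    rw [← key]
    exact H.mul_mem (H.mul_mem hg h) (H.inv_mem hg)
  · intro h
    have : tS (eV (1 : Fin (1 + 1))) c =
        (vS 1 ε * uS 1 F)⁻¹ * tS (eV (0 : Fin (1 + 1))) c * (vS 1 ε * uS 1 F) := by
      rw [← key]; group
    rw [this]
    exact H.mul_mem (H.mul_mem (H.inv_mem hg) h) hg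

/-- (A2) -/
theorem stepA2 (H : Subgroup Sp2) (ε : F) (hu : uS 1 F ∈ H) (hv : vS 1 ε ∈ H) (c : F)
    (hc : tS (eV (1 : Fin (1 + 1))) c ∈ H) : qS (c • (!![0, 1; 1, 0] : M22)) ∈ H := by
  have h0 : tS (eV (0 : Fin (1 + 1))) c ∈ H := (stepA1 H ε hu hv c).mp hc
  have key := tS_conj (uS 1 F) (eV (1 : Fin (1 + 1))) c
  have hmv : ((uS 1 F : Sp2) : M44) *ᵥ eV (1 : Fin (1 + 1)) =
      eV (1 : Fin (1 + 1)) + eV (0 : Fin (1 + 1)) :=
    uMat_eV_succ (0 : Fin (1 + 1)) (1 : Fin (1 + 1)) rfl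
  rw [hmv, tS_sum_eq] at key
  have : qS (c • (!![0, 1; 1, 0] : M22)) =
      (tS (eV (0 : Fin (1 + 1))) c * tS (eV (1 : Fin (1 + 1))) c)⁻¹ *
        (uS 1 F * tS (eV (1 : Fin (1 + 1))) c * (uS 1 F)⁻¹) := by
    rw [key]; group
  rw [this]
  exact H.mul_mem (H.inv_mem (H.mul_mem h0 hc)) (H.mul_mem (H.mul_mem hu hc) (H.inv_mem hu))

/-- (A4) -/
theorem stepA4 (H : Subgroup Sp2) (y d : F) (hy : tS (fV (1 : Fin (1 + 1))) y ∈ H)
    (hd : qS (d • (!![0, 1; 1, 0] : M22)) ∈ H) :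
    xrS (y * d) * tS (eV (0 : Fin (1 + 1))) (y * d * d) ∈ H := by
  have key := rel_R1 y d
  rw [qS_E00] at key
  have : xrS (y * d) * tS (eV (0 : Fin (1 + 1))) (y * d * d) =
      (qS (d • (!![0, 1; 1, 0] : M22)))⁻¹ *
        (tS (fV (1 : Fin (1 + 1))) y * qS (d • (!![0, 1; 1, 0] : M22)) *
          (tS (fV (1 : Fin (1 + 1))) y)⁻¹) := by
    rw [key]; group
  rw [this]
  exact H.mul_mem (H.inv_mem hd) (H.mul_mem (H.mul_mem hy hd) (H.inv_mem hy))

/-- **Case C core**: all powers of `ε` are parameters of `T_{e_last} ∩ H`. -/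
theorem caseC_core (H : Subgroup Sp2) (c₀ ε : F) (h : c₀ * ε = 1) (hu : uS 1 F ∈ H)
    (hv : vS 1 ε ∈ H) (hc : tS (eV (1 : Fin (1 + 1))) c₀ ∈ H) :
    ∀ k : ℕ, tS (eV (1 : Fin (1 + 1))) (ε ^ k) ∈ H ∧ xrS (ε ^ k) ∈ H := by
  have hf : tS (fV (1 : Fin (1 + 1))) ε ∈ H := step_f_last (m := 1) H c₀ ε h hv hc
  have hweyl : ∀ c : F, tS (eV (1 : Fin (1 + 1))) c ∈ H →
      tS (fV (1 : Fin (1 + 1))) (c * ε * ε) ∈ H :=
    fun c hcc => step_weyl (m := 1) H c₀ ε h hc hf c hcc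
  have hs0 : qS (c₀ • (!![0, 1; 1, 0] : M22)) ∈ H := stepA2 H ε hu hv c₀ hc
  -- `1 ∈ a`
  have hx1 : xrS (1 : F) ∈ H := by
    have h4 := stepA4 H ε c₀ hf hs0
    have e1 : ε * c₀ = 1 := by rw [mul_comm]; exact h
    rw [e1, one_mul] at h4
    have h0 : tS (eV (0 : Fin (1 + 1))) c₀ ∈ H := (stepA1 H ε hu hv c₀).mp hc
    have : xrS (1 : F) = xrS 1 * tS (eV (0 : Fin (1 + 1))) c₀ *
        (tS (eV (0 : Fin (1 + 1))) c₀)⁻¹ := by group
    rw [this]
    exact H.mul_mem h4 (H.inv_mem h0)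
  have h1a : tS (eV (1 : Fin (1 + 1))) (1 : F) ∈ H := by
    have e := uS_eq_xrS (F := F)
    have e' : qS (Ell 1 F) = tS (eV (1 : Fin (1 + 1))) (1 : F) := by
      have := qS_E11 (F := F) 1
      rw [one_smul] at this
      exact this
    rw [e'] at e
    have : tS (eV (1 : Fin (1 + 1))) (1 : F) = (xrS 1)⁻¹ * uS 1 F := by rw [e]; group
    rw [this]
    exact H.mul_mem (H.inv_mem hx1) hu
  have hs1 : qS ((1 : F) • (!![0, 1; 1, 0] : M22)) ∈ H := stepA2 H ε hu hv 1 h1a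
  intro k
  induction k using Nat.strong_induction_on with
  | _ k ih =>
    rcases k with _ | k
    · rw [pow_zero]
      exact ⟨h1a, hx1⟩
    · -- `ε^(k+1)`
      have hk := ih k (Nat.lt_succ_self k)
      -- `t_{f}(ε^(k+2)) ∈ H`
      have hfk2 : tS (fV (1 : Fin (1 + 1))) (ε ^ (k + 2)) ∈ H := by
        have := hweyl (ε ^ k) hk.1
        have e : ε ^ k * ε * ε = ε ^ (k + 2) := by ring
        rw [e] at this
        exact this
      have hx : xrS (ε ^ (k + 1)) ∈ H := by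
        have h4 := stepA4 H (ε ^ (k + 2)) c₀ hfk2 hs0
        have e1 : ε ^ (k + 2) * c₀ = ε ^ (k + 1) := by
          have : ε ^ (k + 2) * c₀ = ε ^ (k + 1) * (c₀ * ε) := by ring
          rw [this, h, mul_one]
        have e2 : ε ^ (k + 1) * c₀ = ε ^ k := by
          have : ε ^ (k + 1) * c₀ = ε ^ k * (c₀ * ε) := by ring
          rw [this, h, mul_one]
        rw [e1, e2] at h4
        have h0 : tS (eV (0 : Fin (1 + 1))) (ε ^ k) ∈ H := (stepA1 H ε hu hv _).mp hk.1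
        have : xrS (ε ^ (k + 1)) = xrS (ε ^ (k + 1)) * tS (eV (0 : Fin (1 + 1))) (ε ^ k) *
            (tS (eV (0 : Fin (1 + 1))) (ε ^ k))⁻¹ := by group
        rw [this]
        exact H.mul_mem h4 (H.inv_mem h0)
      -- `t_{f}(ε^(k+1)) ∈ H`
      have hfk1 : tS (fV (1 : Fin (1 + 1))) (ε ^ (k + 1)) ∈ H := by
        rcases k with _ | k
        · rw [zero_add, pow_one]; exact hf
        · have hk' := ih k (by omega)
          have := hweyl (ε ^ k) hk'.1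
          have e : ε ^ k * ε * ε = ε ^ (k + 1 + 1) := by ring
          rw [e] at this
          exact this
      have h4 := stepA4 H (ε ^ (k + 1)) 1 hfk1 hs1
      rw [mul_one, mul_one] at h4
      have h0 : tS (eV (0 : Fin (1 + 1))) (ε ^ (k + 1)) ∈ H := by
        have : tS (eV (0 : Fin (1 + 1))) (ε ^ (k + 1)) =
            (xrS (ε ^ (k + 1)))⁻¹ * (xrS (ε ^ (k + 1)) * tS (eV (0 : Fin (1 + 1))) (ε ^ (k + 1))) := by
          group
        rw [this]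
        exact H.mul_mem (H.inv_mem hx) h4
      exact ⟨(stepA1 H ε hu hv _).mpr h0, hx⟩

end Cfsg.Agent.Lib.Helper5.SpRU
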