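import Mathlib
import Cfsg.Prelude
import Cfsg.Agent.Lib.Helper5.SpRU.CaseC3

set_option autoImplicit false
set_option linter.unusedSectionVars false

open Matrix

/-! # Case C of S2281 (`n = 2`): the field argument -/

namespace Cfsg.Agent.Lib.Helper5.SpRU

variable {F : Type*} [Field F] {m : ℕ}

local notation "Spm" => Matrix.symplecticGroup (Fin (m + 1)) F

/-- the parameters of a root subgroup inside `H` form an additive subgroup -/
def paramGroup (H : Subgroup Spm) (p : Fin (m + 1) ⊕ Fin (m + 1) → F) : AddSubgroup F where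
  carrier := {c | tS p c ∈ H}
  zero_mem' := by
    show tS p 0 ∈ H
    rw [tS_zero]; exact H.one_mem
  add_mem' := by
    intro a b ha hb
    show tS p (a + b) ∈ H
    rw [← tS_mul]; exact H.mul_mem ha hb
  neg_mem' := by
    intro a ha
    show tS p (-a) ∈ H
    rw [← tS_inv]; exact H.inv_mem ha

theorem mem_paramGroup (H : Subgroup Spm) (p : Fin (m + 1) ⊕ Fin (m + 1) → F) (c : F) :
    c ∈ paramGroup H p ↔ tS p c ∈ H := Iff.rfl

/-- an additive subgroup of a finite field containing all squares is everything -/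
theorem addSubgroup_of_squares [Fintype F] (A : AddSubgroup F) (h : ∀ x : F, x ^ 2 ∈ A) :
    ∀ x : F, x ∈ A := by
  intro x
  by_cases h2 : (2 : F) = 0
  · have hch : ringChar F = 2 := by
      apply CharP.ringChar_of_prime_eq_zero Nat.prime_two
      rw [Nat.cast_ofNat]; exact h2
    obtain ⟨r, hr⟩ := FiniteField.isSquare_of_char_two hch x
    rw [hr, ← pow_two]
    exact h r
  · have e : x = ((x + 1) / 2) ^ 2 - ((x - 1) / 2) ^ 2 := by
      field_simp
      ring
    rw [e]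
    exact A.sub_mem (h _) (h _)

/-- an additive subgroup containing all powers of `(θ⁻¹)²`, `θ` a generator, is everything -/
theorem addSubgroup_of_powers [Fintype F] (A : AddSubgroup F) (θ : F) (hθ0 : θ ≠ 0)
    (hθ : ∀ y : F, y ≠ 0 → ∃ k : ℕ, y = θ ^ k) (h : ∀ k : ℕ, ((θ⁻¹) ^ 2) ^ k ∈ A) :
    ∀ x : F, x ∈ A := by
  apply addSubgroup_of_squares
  intro x
  by_cases hx : x = 0
  · rw [hx, zero_pow two_ne_zero]; exact A.zero_mem
  · obtain ⟨j, hj⟩ := hθ x hx
    set ε : F := (θ⁻¹) ^ 2 with hε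
    have hε0 : ε ≠ 0 := pow_ne_zero _ (inv_ne_zero hθ0)
    have hq : 2 ≤ Fintype.card F := Fintype.one_lt_card
    have h1 : ε ^ (Fintype.card F - 2) * ε = 1 := by
      rw [← pow_succ]
      have : Fintype.card F - 2 + 1 = Fintype.card F - 1 := by omega
      rw [this]
      exact FiniteField.pow_card_sub_one_eq_one ε hε0
    have h2 : ε ^ (Fintype.card F - 2) = θ ^ 2 := by
      have : ε * θ ^ 2 = 1 := by
        rw [hε, ← mul_pow, inv_mul_cancel₀ hθ0, one_pow]
      calc ε ^ (Fintype.card F - 2) = ε ^ (Fintype.card F - 2) * (ε * θ ^ 2) := by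
            rw [this, mul_one]
        _ = (ε ^ (Fintype.card F - 2) * ε) * θ ^ 2 := by ring
        _ = θ ^ 2 := by rw [h1, one_mul]
    have h3 : x ^ 2 = ε ^ ((Fintype.card F - 2) * j) := by
      rw [pow_mul, h2, hj, ← pow_mul, ← pow_mul, mul_comm]
    rw [h3]
    exact h _

/-- **Case C**: the full root subgroup. -/
theorem caseC_all [Fintype F] (H : Subgroup (Matrix.symplecticGroup (Fin (1 + 1)) F)) (θ : F)
    (hθ0 : θ ≠ 0) (hθ : ∀ y : F, y ≠ 0 → ∃ k : ℕ, y = θ ^ k) (hu : uS 1 F ∈ H)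
    (hv : vS 1 ((θ⁻¹) ^ 2) ∈ H) (hc : tS (eV (1 : Fin (1 + 1))) (θ ^ 2) ∈ H) :
    ∀ c : F, tS (eV (1 : Fin (1 + 1))) c ∈ H := by
  have h : θ ^ 2 * (θ⁻¹) ^ 2 = 1 := by
    rw [← mul_pow, mul_inv_cancel₀ hθ0, one_pow]
  have hk := caseC_core H (θ ^ 2) ((θ⁻¹) ^ 2) h hu hv hc
  intro c
  exact addSubgroup_of_powers (paramGroup H (eV (1 : Fin (1 + 1)))) θ hθ0 hθ
    (fun k => (hk k).1) c

end Cfsg.Agent.Lib.Helper5.SpRU
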