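import Mathlib
import Cfsg.Prelude
import Cfsg.Agent.Lib.Helper5.SpRU.CaseA2
import Cfsg.Agent.Lib.Helper5.SpRU.CaseC4
import Cfsg.Agent.Lib.Helper7.SpRUConj
import Cfsg.Agent.Lib.Helper7.SpRUSlGen
import Cfsg.Agent.Lib.Helper7.SpRUChase
import Cfsg.Agent.Lib.Lead.SpRUReg
import Cfsg.Agent.Lib.Helper8.SpRUGamma

set_option autoImplicit false
set_option linter.unusedSectionVars false

open Matrix

/-! # S2281: assembly -/

namespace Cfsg.Agent.Lib.Helper5.SpRU

variable {F : Type*} [Field F] [Fintype F] {m : ℕ}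

local notation "Spm" => Matrix.symplecticGroup (Fin (m + 1)) F

theorem exists_gen : ∃ θ : F, θ ≠ 0 ∧ ∀ y : F, y ≠ 0 → ∃ k : ℕ, y = θ ^ k := by
  obtain ⟨θ, hθ⟩ := IsCyclic.exists_monoid_generator (α := Fˣ)
  refine ⟨θ, θ.ne_zero, fun y hy => ?_⟩
  obtain ⟨k, hk⟩ := hθ (Units.mk0 y hy)
  refine ⟨k, ?_⟩
  have hk' : θ ^ k = Units.mk0 y hy := hk
  have := congrArg Units.val hk'
  rw [Units.val_pow_eq_pow_val, Units.val_mk0] at this
  exact this.symm

theorem exists_nat_cast (hp : (Fintype.card F).Prime) (x : F) : ∃ k : ℕ, x = (k : F) := by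
  haveI : NeZero (Fintype.card F) := ⟨hp.ne_zero⟩
  set e := ZMod.ringEquivOfPrime F hp rfl with he
  refine ⟨(e.symm x).val, ?_⟩
  calc x = e (e.symm x) := (e.apply_symm_apply x).symm
    _ = e (((e.symm x).val : ℕ) : ZMod (Fintype.card F)) := by rw [ZMod.natCast_zmod_val]
    _ = (((e.symm x).val : ℕ) : F) := map_natCast e _

/-- over a prime field a root subgroup is cyclic -/
theorem root_of_one (hp : (Fintype.card F).Prime) (H : Subgroup Spm)
    (p : Fin (m + 1) ⊕ Fin (m + 1) → F) (h1 : tS p 1 ∈ H) : ∀ c : F, tS p c ∈ H := by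
  intro c
  obtain ⟨k, rfl⟩ := exists_nat_cast hp c
  have : ((k : ℕ) : F) ∈ paramGroup H p := by
    have h := (paramGroup H p).nsmul_mem ((mem_paramGroup H p 1).mpr h1) k
    rw [nsmul_eq_mul, mul_one] at h
    exact h
  exact this

theorem two_eq_zero_of_card_two (h : Fintype.card F = 2) : (2 : F) = 0 := by
  have h1 : ringChar F = 2 := by
    rw [FiniteField.even_card_iff_char_two, h]
  have := CharP.cast_eq_zero F (ringChar F)
  rw [h1] at this
  exact_mod_cast this

theorem two_ne_zero_of_card_odd (h : Fintype.card F % 2 = 1) : (2 : F) ≠ 0 := by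
  intro h2
  have hch : ringChar F = 2 := by
    apply CharP.ringChar_of_prime_eq_zero Nat.prime_two
    rw [Nat.cast_ofNat]; exact h2
  rw [FiniteField.even_card_iff_char_two] at hch
  omega

theorem card_eq_two_of_prime_of_two_eq_zero (hp : (Fintype.card F).Prime) (h2 : (2 : F) = 0) :
    Fintype.card F = 2 := by
  have hch : ringChar F = 2 := by
    apply CharP.ringChar_of_prime_eq_zero Nat.prime_two
    rw [Nat.cast_ofNat]; exact h2
  rw [FiniteField.even_card_iff_char_two] at hch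
  rcases hp.eq_one_or_self_of_dvd 2 (Nat.dvd_of_mod_eq_zero hch) with h | h
  · omega
  · exact h.symm

/-- the prime field case -/
theorem main_prime (hm : 1 ≤ m) (hp : (Fintype.card F).Prime)
    (h22 : ¬ (m = 1 ∧ Fintype.card F = 2)) :
    ∃ g h : Spm, Subgroup.closure ({uS m F, g * uS m F * g⁻¹, h * uS m F * h⁻¹} : Set Spm) = ⊤ := by
  obtain ⟨g, hg⟩ := vS_conj (m := m) (1 : F) one_ne_zero
  have hseed : ∃ h : Spm, (uS m F)⁻¹ * (h * uS m F * h⁻¹) = tS (eV (0 : Fin (m + 1))) (1 : F) := by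
    by_cases h2 : (2 : F) = 0
    · have hc := card_eq_two_of_prime_of_two_eq_zero hp h2
      have hm2 : 2 ≤ m := by
        by_contra hlt
        exact h22 ⟨by omega, hc⟩
      exact seed_even h2 hm2 1
    · exact seed_odd h2 hm 1
  obtain ⟨h, hh⟩ := hseed
  refine ⟨g, h, ?_⟩
  set H : Subgroup Spm :=
    Subgroup.closure ({uS m F, g * uS m F * g⁻¹, h * uS m F * h⁻¹} : Set Spm) with hH
  have hu : uS m F ∈ H := Subgroup.subset_closure (by simp)
  have hv : vS m ((1 : F) ^ 2) ∈ H := by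
    rw [← hg]; exact Subgroup.subset_closure (by simp)
  have hw : h * uS m F * h⁻¹ ∈ H := Subgroup.subset_closure (by simp)
  have h1 : tS (eV (0 : Fin (m + 1))) (1 : F) ∈ H := by
    rw [← hh]; exact H.mul_mem (H.inv_mem hu) hw
  exact chase_top' hm H ((1 : F) ^ 2) (by simp) hu hv (root_of_one hp H _ h1)

theorem exists_lam (hq : 4 ≤ Fintype.card F) : ∃ lam : F, lam ≠ 0 ∧ lam ^ 2 ≠ 1 := by
  classical
  by_contra hcon
  push Not at hcon
  -- every element is 0, 1 or -1
  have hall : ∀ x : F, x = 0 ∨ x = 1 ∨ x = -1 := by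
    intro x
    by_cases hx : x = 0
    · exact Or.inl hx
    · right
      have := hcon x hx
      have h' : (x - 1) * (x + 1) = 0 := by
        have : (x - 1) * (x + 1) = x ^ 2 - 1 := by ring
        rw [this, ‹x ^ 2 = 1›, sub_self]
      rcases mul_eq_zero.mp h' with h1 | h1
      · exact Or.inl (sub_eq_zero.mp h1)
      · exact Or.inr (eq_neg_of_add_eq_zero_left h1)
  have hsub : (Finset.univ : Finset F) ⊆ {0, 1, -1} := by
    intro x _
    rcases hall x with h | h | h <;> simp [h]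
  have := Finset.card_le_card hsub
  have h3 : ({0, 1, -1} : Finset F).card ≤ 3 := Finset.card_le_three
  rw [Finset.card_univ] at this
  omega

/-- the case `n ≥ 3`, `q ≥ 4` -/
theorem main_A (hm : 2 ≤ m) (hq : 4 ≤ Fintype.card F) :
    ∃ g h : Spm, Subgroup.closure ({uS m F, g * uS m F * g⁻¹, h * uS m F * h⁻¹} : Set Spm) = ⊤ := by
  obtain ⟨g₀, hg₀⟩ := exists_sl_gen (F := F) hm
  obtain ⟨lam, hl0, hl1⟩ := exists_lam (F := F) hq
  obtain ⟨h, hh⟩ := vS_conj (m := m) (1 : F) one_ne_zero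
  refine ⟨dS g₀ * hS lam hl0, h, ?_⟩
  set H : Subgroup Spm := Subgroup.closure
    ({uS m F, (dS g₀ * hS lam hl0) * uS m F * (dS g₀ * hS lam hl0)⁻¹, h * uS m F * h⁻¹} :
      Set Spm) with hH
  have hu : uS m F ∈ H := Subgroup.subset_closure (by simp)
  have hv : vS m ((1 : F) ^ 2) ∈ H := by
    rw [← hh]; exact Subgroup.subset_closure (by simp)
  have hle : Subgroup.closure
      ({uS m F, (dS g₀ * hS lam hl0) * uS m F * (dS g₀ * hS lam hl0)⁻¹} : Set Spm) ≤ H := by
    apply Subgroup.closure_mono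
    intro x hx
    rcases hx with rfl | hx
    · simp
    · rw [Set.mem_singleton_iff] at hx
      subst hx
      simp
  have hcore := caseA_core g₀ hg₀ lam hl0 hl1
    (fun N hstab S₀ hS₀ hsymm j hj => gamma_diag hq (by omega) N hstab S₀ hS₀ hsymm j hj)
  apply chase_top (by omega) H ((1 : F) ^ 2) (by simp) hu hv
  intro c
  have := hle (hcore c)
  have e : qS (c • Ell m F) = tS (eV (Fin.last m)) c := by
    apply Subtype.ext
    rw [qS_coe (by rw [Matrix.transpose_smul, Ell_transpose]), tS_eV_coe]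
    rfl
  rw [e] at this
  exact this

/-- the case `n = 2`, `q ≥ 4` -/
theorem main_C (hq : 4 ≤ Fintype.card F) :
    ∃ g h : Matrix.symplecticGroup (Fin (1 + 1)) F,
      Subgroup.closure ({uS 1 F, g * uS 1 F * g⁻¹, h * uS 1 F * h⁻¹} :
        Set (Matrix.symplecticGroup (Fin (1 + 1)) F)) = ⊤ := by
  classical
  obtain ⟨θ, hθ0, hθ⟩ := exists_gen (F := F)
  obtain ⟨g, hg⟩ := vS_conj (m := 1) (θ⁻¹) (inv_ne_zero hθ0)
  -- the seed
  have hseed : ∃ h : Matrix.symplecticGroup (Fin (1 + 1)) F,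
      (uS 1 F)⁻¹ * (h * uS 1 F * h⁻¹) = tS (eV (1 : Fin (1 + 1))) (θ ^ 2) ∨
      (uS 1 F)⁻¹ * (h * uS 1 F * h⁻¹) = tS (eV (0 : Fin (1 + 1))) (θ ^ 2) := by
    by_cases h2 : (2 : F) = 0
    · have hθ1 : θ + 1 ≠ 0 := by
        intro h
        have hθ1 : θ = 1 := by linear_combination h - h2
        -- then every nonzero element is 1
        have hall : ∀ x : F, x = 0 ∨ x = 1 := by
          intro x
          by_cases hx : x = 0
          · exact Or.inl hx
          · obtain ⟨k, hk⟩ := hθ x hx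
            rw [hθ1, one_pow] at hk
            exact Or.inr hk
        have hsub : (Finset.univ : Finset F) ⊆ {0, 1} := by
          intro x _
          rcases hall x with h | h <;> simp [h]
        have := Finset.card_le_card hsub
        have h3 : ({0, 1} : Finset F).card ≤ 2 := Finset.card_le_two
        rw [Finset.card_univ] at this
        omega
      obtain ⟨h, hh⟩ := seed_scal (m := 1) (θ + 1) hθ1
      refine ⟨h, Or.inl ?_⟩
      rw [hh]
      congr 1
      have : (θ + 1) ^ 2 - 1 = θ ^ 2 + 2 * θ := by ring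
      rw [this, h2, zero_mul, add_zero]
    · obtain ⟨h, hh⟩ := seed_odd (m := 1) h2 le_rfl (θ ^ 2)
      exact ⟨h, Or.inr hh⟩
  obtain ⟨h, hh⟩ := hseed
  refine ⟨g, h, ?_⟩
  set H : Subgroup (Matrix.symplecticGroup (Fin (1 + 1)) F) :=
    Subgroup.closure ({uS 1 F, g * uS 1 F * g⁻¹, h * uS 1 F * h⁻¹} :
      Set (Matrix.symplecticGroup (Fin (1 + 1)) F)) with hH
  have hu : uS 1 F ∈ H := Subgroup.subset_closure (by simp)
  have hv : vS 1 ((θ⁻¹) ^ 2) ∈ H := by
    rw [← hg]; exact Subgroup.subset_closure (by simp)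
  have hw : h * uS 1 F * h⁻¹ ∈ H := Subgroup.subset_closure (by simp)
  have hc : tS (eV (1 : Fin (1 + 1))) (θ ^ 2) ∈ H := by
    rcases hh with hh | hh
    · rw [← hh]; exact H.mul_mem (H.inv_mem hu) hw
    · apply (stepA1 H ((θ⁻¹) ^ 2) hu hv (θ ^ 2)).mpr
      rw [← hh]; exact H.mul_mem (H.inv_mem hu) hw
  have hall := caseC_all H θ hθ0 hθ hu hv hc
  exact chase_top (m := 1) le_rfl H ((θ⁻¹) ^ 2) (pow_ne_zero _ (inv_ne_zero hθ0)) hu hv hall

/-- **S2281**, in the form `n = m + 1`. -/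
theorem main_thm (hm : 1 ≤ m) (h22 : ¬ (m = 1 ∧ Fintype.card F = 2)) :
    ∃ g h : Spm, Subgroup.closure ({uS m F, g * uS m F * g⁻¹, h * uS m F * h⁻¹} : Set Spm) = ⊤ := by
  by_cases hp : (Fintype.card F).Prime
  · exact main_prime hm hp h22
  · have hq : 4 ≤ Fintype.card F := by
      have h1 : 2 ≤ Fintype.card F := Fintype.one_lt_card
      by_contra hlt
      have : Fintype.card F = 2 ∨ Fintype.card F = 3 := by omega
      rcases this with h | h
      · exact hp (h ▸ Nat.prime_two)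
      · exact hp (h ▸ Nat.prime_three)
    by_cases hm2 : 2 ≤ m
    · exact main_A hm2 hq
    · have hm1 : m = 1 := by omega
      subst hm1
      exact main_C hq

end Cfsg.Agent.Lib.Helper5.SpRU
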